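import Mathlib

/-!
Element orders in semidirect products `N ⋊ G` with `N` abelian of small exponent, and some
generalities about sets of element orders.
-/

set_option autoImplicit false

namespace Cfsg.Agent.Spectrum

open SemidirectProduct

/-- Every finite group has an isomorphic copy in `Type`. -/
theorem exists_type_copy (G : Type*) [Group G] [Finite G] :
    ∃ (H : Type) (_ : Group H) (_ : Fintype H), Nonempty (H ≃* G) := by
  classical
  cases nonempty_fintype G
  let e : Fin (Fintype.card G) ≃ G := (Fintype.equivFin G).symm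
  exact ⟨Fin (Fintype.card G), e.group, inferInstance,
    ⟨@Equiv.mulEquiv (Fin (Fintype.card G)) G e _⟩⟩

theorem range_orderOf_congr {G H : Type*} [Group G] [Group H] (e : G ≃* H) :
    Set.range (orderOf : G → ℕ) = Set.range (orderOf : H → ℕ) := by
  ext n
  constructor
  · rintro ⟨g, rfl⟩; exact ⟨e g, e.orderOf_eq g⟩
  · rintro ⟨g, rfl⟩; exact ⟨e.symm g, e.symm.orderOf_eq g⟩

/-- The set of element orders is closed under divisors. -/
theorem mem_range_orderOf_of_dvd {G : Type*} [Group G] [Finite G] {n d : ℕ}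
    (hn : n ∈ Set.range (orderOf : G → ℕ)) (hd : d ∣ n) : d ∈ Set.range (orderOf : G → ℕ) := by
  obtain ⟨g, rfl⟩ := hn
  exact ⟨g ^ (orderOf g / d), orderOf_pow_orderOf_div (orderOf_pos g).ne' hd⟩

variable {N G : Type*} [CommGroup N] [Group G] (φ : G →* MulAut N)

/-- The twNorm of `n` with respect to `g`. -/
noncomputable def twNorm (g : G) (n : N) : N := ∏ i ∈ Finset.range (orderOf g), φ (g ^ i) n

theorem pow_eq (g : G) (n : N) (k : ℕ) :
    (⟨n, g⟩ : N ⋊[φ] G) ^ k = ⟨∏ i ∈ Finset.range k, φ (g ^ i) n, g ^ k⟩ := by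
  induction k with
  | zero => ext <;> simp
  | succ k ih =>
    ext
    · rw [pow_succ, mul_left, ih, Finset.prod_range_succ]
    · rw [pow_succ, mul_right, ih, pow_succ]

theorem pow_orderOf_eq (g : G) (n : N) :
    (⟨n, g⟩ : N ⋊[φ] G) ^ orderOf g = inl (twNorm φ g n) := by
  rw [pow_eq]
  ext
  · rfl
  · simp [pow_orderOf_eq_one]

theorem orderOf_dvd_mul (g : G) (n : N) {r : ℕ} (hr : ∀ a : N, a ^ r = 1) :
    orderOf (⟨n, g⟩ : N ⋊[φ] G) ∣ orderOf g * r := by
  apply orderOf_dvd_of_pow_eq_one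
  rw [pow_mul, pow_orderOf_eq, ← map_pow, hr, map_one]

theorem orderOf_right_dvd (g : G) (n : N) : orderOf g ∣ orderOf (⟨n, g⟩ : N ⋊[φ] G) := by
  have := orderOf_map_dvd (rightHom (φ := φ)) (⟨n, g⟩ : N ⋊[φ] G)
  simpa using this

theorem orderOf_eq_of_norm_eq_one (g : G) (n : N) (h : twNorm φ g n = 1) :
    orderOf (⟨n, g⟩ : N ⋊[φ] G) = orderOf g := by
  refine Nat.dvd_antisymm (orderOf_dvd_of_pow_eq_one ?_) (orderOf_right_dvd φ g n)
  rw [pow_orderOf_eq, h, map_one]

theorem orderOf_eq_mul_of_norm_ne_one (g : G) (n : N) {r : ℕ} (hr' : r.Prime)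
    (hr : ∀ a : N, a ^ r = 1) (h : twNorm φ g n ≠ 1) :
    orderOf (⟨n, g⟩ : N ⋊[φ] G) = orderOf g * r := by
  obtain ⟨a, ha⟩ := orderOf_right_dvd φ g n
  rw [ha]
  congr 1
  rcases eq_or_ne (orderOf g) 0 with h0 | h0
  · exact absurd (by simp [twNorm, h0]) h
  have hdvd := orderOf_dvd_mul φ g n hr
  rw [ha, Nat.mul_dvd_mul_iff_left (Nat.pos_of_ne_zero h0)] at hdvd
  rcases (Nat.dvd_prime hr').mp hdvd with rfl | rfl
  · exfalso
    apply h
    have h1 := pow_orderOf_eq_one (⟨n, g⟩ : N ⋊[φ] G)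
    rw [ha, mul_one, pow_orderOf_eq] at h1
    exact inl_injective (h1.trans (map_one _).symm)
  · rfl

end Cfsg.Agent.Spectrum
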