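import Cfsg.Agent.Lib.Spectrum.Semidirect

/-!
Element orders in PGL(2,F) and PSL(2,F) for a finite field F of odd characteristic.
-/

set_option autoImplicit false

namespace Cfsg.Agent.Spectrum.PGL2

open Matrix

variable {F : Type*} [Field F]

/-- The discriminant of a 2 by 2 matrix. -/
def disc (M : Matrix (Fin 2) (Fin 2) F) : F := M.trace ^ 2 - 4 * M.det

/-- Twice a matrix minus its trace. -/
def twoSub (M : Matrix (Fin 2) (Fin 2) F) : Matrix (Fin 2) (Fin 2) F :=
  (2 : F) • M - M.trace • 1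

theorem twoSub_sq (M : Matrix (Fin 2) (Fin 2) F) : twoSub M * twoSub M = disc M • 1 := by
  ext i j
  fin_cases i <;> fin_cases j <;>
    simp [twoSub, disc, Matrix.mul_apply, Fin.sum_univ_two, Matrix.trace_fin_two,
      Matrix.det_fin_two] <;> ring

theorem cayley (M : Matrix (Fin 2) (Fin 2) F) : M * M = M.trace • M - M.det • 1 := by
  ext i j
  fin_cases i <;> fin_cases j <;>
    simp [Matrix.mul_apply, Fin.sum_univ_two, Matrix.trace_fin_two, Matrix.det_fin_two] <;> ring

theorem pow_mem_span (M : Matrix (Fin 2) (Fin 2) F) (j : ℕ) :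
    ∃ a b : F, M ^ j = a • (1 : Matrix (Fin 2) (Fin 2) F) + b • M := by
  induction j with
  | zero => exact ⟨1, 0, by simp⟩
  | succ j ih =>
    obtain ⟨a, b, h⟩ := ih
    refine ⟨-(b * M.det), a + b * M.trace, ?_⟩
    rw [pow_succ, h, add_mul, smul_mul_assoc, one_mul, smul_mul_assoc, cayley]
    ext i k
    simp only [Matrix.add_apply, Matrix.smul_apply, Matrix.sub_apply, smul_eq_mul]
    ring

theorem scalar_of_sq_one {M : Matrix (Fin 2) (Fin 2) F} (h2 : (2 : F) ≠ 0) (hd : M.det = 1)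
    (h : M * M = 1) : M = 1 ∨ M = -1 := by
  rw [cayley, hd, one_smul, sub_eq_iff_eq_add] at h
  have e00 := congrFun₂ h 0 0
  have e01 := congrFun₂ h 0 1
  have e10 := congrFun₂ h 1 0
  simp [Matrix.trace_fin_two] at e00 e01 e10
  have ht : M 0 0 + M 1 1 ≠ 0 := by
    intro ht
    rw [ht, zero_mul] at e00
    exact h2 (by linear_combination -e00)
  rcases e01 with h01 | h01
  · exact absurd h01 ht
  rcases e10 with h10 | h10
  · exact absurd h10 ht
  rw [Matrix.det_fin_two, h01, zero_mul, sub_zero] at hd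
  have hsq : M 0 0 * M 0 0 = 1 := by linear_combination e00 - hd
  have h11 : M 1 1 = M 0 0 := by linear_combination M 1 1 * hsq * (-1) + M 0 0 * hd
  rcases mul_self_eq_one_iff.mp hsq with h00 | h00
  · left; ext i j; fin_cases i <;> fin_cases j <;> simp [h00, h01, h10, h11]
  · right; ext i j; fin_cases i <;> fin_cases j <;> simp [h00, h01, h10, h11]

variable [Fintype F]

theorem two_ne_zero_of_odd (hodd : ringChar F ≠ 2) : (2 : F) ≠ 0 :=
  Ring.two_ne_zero hodd

theorem half_dichotomy (hodd : ringChar F ≠ 2) {d : F} (hd : d ≠ 0) :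
    d ^ ((Fintype.card F - 1) / 2) = 1 ∨ d ^ ((Fintype.card F - 1) / 2) = -1 := by
  rcases FiniteField.pow_dichotomy hodd hd with h | h
  · left; rwa [show (Fintype.card F - 1) / 2 = Fintype.card F / 2 by
      have := FiniteField.odd_card_of_char_ne_two hodd; omega]
  · right; rwa [show (Fintype.card F - 1) / 2 = Fintype.card F / 2 by
      have := FiniteField.odd_card_of_char_ne_two hodd; omega]

theorem pow_card_formula (hodd : ringChar F ≠ 2) (M : Matrix (Fin 2) (Fin 2) F) :
    M ^ Fintype.card F = ((2 : F)⁻¹ * M.trace) • (1 : Matrix (Fin 2) (Fin 2) F)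
      + (2 : F)⁻¹ • disc M ^ ((Fintype.card F - 1) / 2) • twoSub M := by
  obtain ⟨n, hp, hq⟩ := FiniteField.card F (ringChar F)
  haveI := Fact.mk hp
  have h2 := two_ne_zero_of_odd hodd
  have hM : M = ((2 : F)⁻¹ * M.trace) • (1 : Matrix (Fin 2) (Fin 2) F) + (2 : F)⁻¹ • twoSub M := by
    rw [twoSub, smul_sub, smul_smul, smul_smul, inv_mul_cancel₀ h2, one_smul]; abel
  have hS : twoSub M ^ Fintype.card F = disc M ^ ((Fintype.card F - 1) / 2) • twoSub M := by
    have ho := FiniteField.odd_card_of_char_ne_two hodd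
    obtain ⟨k, hk⟩ : ∃ k, Fintype.card F = 2 * k + 1 := ⟨Fintype.card F / 2, by omega⟩
    rw [hk, pow_succ, pow_mul, pow_two, twoSub_sq, smul_pow, one_pow, smul_mul_assoc, one_mul,
      show (2 * k + 1 - 1) / 2 = k by omega]
  have hpow : M ^ Fintype.card F = ((2 : F)⁻¹ * M.trace) • (1 : Matrix (Fin 2) (Fin 2) F)
      + (2 : F)⁻¹ • twoSub M ^ Fintype.card F := by
    conv_lhs => rw [hM]
    rw [hq, add_pow_char_pow_of_commute (ringChar F) (n : ℕ)
      ((Commute.one_left _).smul_left _), smul_pow, one_pow, smul_pow, ← hq,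
      FiniteField.pow_card, FiniteField.pow_card]
  rw [hS] at hpow
  exact hpow

theorem pow_card_eq (hodd : ringChar F ≠ 2) (M : Matrix (Fin 2) (Fin 2) F) (hD : disc M ≠ 0) :
    M ^ Fintype.card F = M ∨ M ^ Fintype.card F = M.trace • 1 - M := by
  have h2 := two_ne_zero_of_odd hodd
  have hM : M = ((2 : F)⁻¹ * M.trace) • (1 : Matrix (Fin 2) (Fin 2) F) + (2 : F)⁻¹ • twoSub M := by
    rw [twoSub, smul_sub, smul_smul, smul_smul, inv_mul_cancel₀ h2, one_smul]; abel
  have hpow := pow_card_formula hodd M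
  rcases half_dichotomy hodd hD with e | e
  · left; rw [hpow, e, one_smul]; exact hM.symm
  · right
    rw [hpow, e]
    ext i j
    simp only [twoSub, Matrix.add_apply, Matrix.sub_apply, Matrix.smul_apply, smul_eq_mul]
    field_simp
    ring

theorem pow_card_of_isSquare (hodd : ringChar F ≠ 2) (M : Matrix (Fin 2) (Fin 2) F)
    (hD : disc M ≠ 0) (hsq : IsSquare (disc M)) : M ^ Fintype.card F = M := by
  have h2 := two_ne_zero_of_odd hodd
  have e : disc M ^ ((Fintype.card F - 1) / 2) = 1 := by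
    have ho := FiniteField.odd_card_of_char_ne_two hodd
    rw [show (Fintype.card F - 1) / 2 = Fintype.card F / 2 by omega]
    exact (FiniteField.isSquare_iff hodd hD).mp hsq
  rw [pow_card_formula hodd, e, one_smul, twoSub, smul_sub, smul_smul, smul_smul,
    inv_mul_cancel₀ h2, one_smul]
  abel

theorem pow_char_eq (hodd : ringChar F ≠ 2) (M : Matrix (Fin 2) (Fin 2) F) (hD : disc M = 0) :
    M ^ ringChar F = (((2 : F)⁻¹ * M.trace) ^ ringChar F) • (1 : Matrix (Fin 2) (Fin 2) F) := by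
  obtain ⟨n, hp, hq⟩ := FiniteField.card F (ringChar F)
  haveI := Fact.mk hp
  have h2 := two_ne_zero_of_odd hodd
  have hM : M = ((2 : F)⁻¹ * M.trace) • (1 : Matrix (Fin 2) (Fin 2) F) + (2 : F)⁻¹ • twoSub M := by
    rw [twoSub, smul_sub, smul_smul, smul_smul, inv_mul_cancel₀ h2, one_smul]; abel
  have hS : twoSub M ^ ringChar F = 0 := by
    have := twoSub_sq M
    rw [hD, zero_smul] at this
    rw [show ringChar F = ringChar F - 2 + 2 by have := hp.two_le; omega, pow_add, pow_two, this,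
      mul_zero]
  conv_lhs => rw [hM]
  rw [add_pow_char_of_commute (ringChar F) ((Commute.one_left _).smul_left _), smul_pow, one_pow,
    smul_pow, hS, smul_zero, add_zero]

/-- Every matrix of nonzero determinant has a scalar power of exponent `p`, `q-1` or `q+1`. -/
theorem scalar_pow (hodd : ringChar F ≠ 2) (M : Matrix (Fin 2) (Fin 2) F) (hdet : M.det ≠ 0) :
    (disc M = 0 ∧ ∃ r : F, M ^ ringChar F = r • 1) ∨
      (disc M ≠ 0 ∧ M ^ (Fintype.card F - 1) = 1) ∨
      (disc M ≠ 0 ∧ M ^ (Fintype.card F + 1) = M.det • 1) := by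
  by_cases hD : disc M = 0
  · exact Or.inl ⟨hD, _, pow_char_eq hodd M hD⟩
  · have hu : IsUnit M := (Matrix.isUnit_iff_isUnit_det M).mpr (isUnit_iff_ne_zero.mpr hdet)
    rcases pow_card_eq hodd M hD with h | h
    · refine Or.inr (Or.inl ⟨hD, hu.mul_left_cancel ?_⟩)
      rw [← pow_succ', Nat.sub_add_cancel Fintype.card_pos, h, mul_one]
    · refine Or.inr (Or.inr ⟨hD, ?_⟩)
      rw [pow_succ, h, sub_mul, smul_mul_assoc, one_mul, cayley]
      abel

/-! ### PGL -/

/-- Abbreviation for PGL(2,F). -/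
abbrev PGL (F : Type*) [Field F] : Type _ :=
  Matrix.GeneralLinearGroup (Fin 2) F ⧸ Subgroup.center (Matrix.GeneralLinearGroup (Fin 2) F)

omit [Fintype F] in
theorem mk_eq_one_iff (g : Matrix.GeneralLinearGroup (Fin 2) F) :
    (g : PGL F) = 1 ↔ ∃ r : F, (g : Matrix (Fin 2) (Fin 2) F) = r • 1 := by
  rw [QuotientGroup.eq_one_iff, Subgroup.mem_center_iff]
  constructor
  · intro h
    have hU := congrArg Units.val (h ⟨!![1, 1; 0, 1], !![1, -1; 0, 1],
      by ext i j; fin_cases i <;> fin_cases j <;> simp,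
      by ext i j; fin_cases i <;> fin_cases j <;> simp⟩)
    have hL := congrArg Units.val (h ⟨!![1, 0; 1, 1], !![1, 0; -1, 1],
      by ext i j; fin_cases i <;> fin_cases j <;> simp,
      by ext i j; fin_cases i <;> fin_cases j <;> simp⟩)
    rw [Units.val_mul, Units.val_mul] at hU hL
    have u00 := congrFun₂ hU 0 0
    have u01 := congrFun₂ hU 0 1
    have l00 := congrFun₂ hL 0 0
    simp [Matrix.mul_apply, Fin.sum_univ_two] at u00 u01 l00
    refine ⟨(g : Matrix (Fin 2) (Fin 2) F) 0 0, ?_⟩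
    ext i j
    fin_cases i <;> fin_cases j <;> simp
    · linear_combination l00
    · linear_combination u00
    · linear_combination u01
  · rintro ⟨r, hr⟩ h
    apply Units.ext
    rw [Units.val_mul, Units.val_mul, hr, mul_smul_comm, smul_mul_assoc, one_mul, mul_one]

theorem orderOf_dvd_cases (hodd : ringChar F ≠ 2) (x : PGL F) :
    orderOf x ∣ ringChar F ∨ orderOf x ∣ Fintype.card F - 1 ∨ orderOf x ∣ Fintype.card F + 1 := by
  obtain ⟨g, rfl⟩ := QuotientGroup.mk_surjective x
  have hdet : (g : Matrix (Fin 2) (Fin 2) F).det ≠ 0 :=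
    ((Matrix.isUnit_iff_isUnit_det _).mp g.isUnit).ne_zero
  have key : ∀ k (r : F), (g : Matrix (Fin 2) (Fin 2) F) ^ k = r • 1 →
      orderOf (g : PGL F) ∣ k := by
    intro k r h
    rw [orderOf_dvd_iff_pow_eq_one, ← QuotientGroup.mk_pow, mk_eq_one_iff]
    exact ⟨r, by rw [Units.val_pow_eq_pow_val, h]⟩
  rcases scalar_pow hodd _ hdet with ⟨-, r, h⟩ | ⟨-, h⟩ | ⟨-, h⟩
  · exact Or.inl (key _ r h)
  · exact Or.inr (Or.inl (key _ 1 (by rw [h, one_smul])))
  · exact Or.inr (Or.inr (key _ _ h))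

/-- A finite field generator. -/
theorem exists_gen (K : Type*) [Field K] [Finite K] :
    ∃ a : Kˣ, orderOf a = Nat.card K - 1 := by
  obtain ⟨a, ha⟩ := IsCyclic.exists_generator (α := Kˣ)
  exact ⟨a, by rw [orderOf_eq_card_of_forall_mem_zpowers ha, Nat.card_units]⟩

theorem exists_order_pred (hodd : ringChar F ≠ 2) :
    ∃ x : PGL F, orderOf x = Fintype.card F - 1 := by
  obtain ⟨a, ha⟩ := exists_gen F
  let g : Matrix.GeneralLinearGroup (Fin 2) F := ⟨!![(a : F), 0; 0, 1], !![((a⁻¹ : Fˣ) : F), 0; 0, 1],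
    by ext i j; fin_cases i <;> fin_cases j <;> simp,
    by ext i j; fin_cases i <;> fin_cases j <;> simp⟩
  have hpow : ∀ k : ℕ, ((g : Matrix (Fin 2) (Fin 2) F)) ^ k = !![(a : F) ^ k, 0; 0, 1] := by
    intro k
    induction k with
    | zero => ext i j; fin_cases i <;> fin_cases j <;> simp
    | succ k ih =>
      rw [pow_succ, ih]
      ext i j; fin_cases i <;> fin_cases j <;> simp [g, pow_succ]
  refine ⟨(g : PGL F), Nat.dvd_antisymm ?_ ?_⟩
  · rw [orderOf_dvd_iff_pow_eq_one, ← QuotientGroup.mk_pow, mk_eq_one_iff]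
    refine ⟨1, ?_⟩
    rw [Units.val_pow_eq_pow_val, hpow, FiniteField.pow_card_sub_one_eq_one _ a.ne_zero, one_smul]
    ext i j; fin_cases i <;> fin_cases j <;> simp
  · have h := pow_orderOf_eq_one (g : PGL F)
    rw [← QuotientGroup.mk_pow, mk_eq_one_iff] at h
    obtain ⟨r, hr⟩ := h
    rw [Units.val_pow_eq_pow_val, hpow] at hr
    have h00 := congrFun₂ hr 0 0
    have h11 := congrFun₂ hr 1 1
    simp at h00 h11
    rw [← h11] at h00
    rw [← Nat.card_eq_fintype_card, ← ha, orderOf_dvd_iff_pow_eq_one, Units.ext_iff,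
      Units.val_pow_eq_pow_val, h00, Units.val_one]

theorem exists_order_char : ∃ x : PGL F, orderOf x = ringChar F := by
  haveI := Fact.mk (CharP.char_is_prime F (ringChar F))
  let g : Matrix.GeneralLinearGroup (Fin 2) F := ⟨!![1, 1; 0, 1], !![1, -1; 0, 1],
    by ext i j; fin_cases i <;> fin_cases j <;> simp,
    by ext i j; fin_cases i <;> fin_cases j <;> simp⟩
  have hpow : ∀ k : ℕ, ((g : Matrix (Fin 2) (Fin 2) F)) ^ k = !![1, (k : F); 0, 1] := by
    intro k
    induction k with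
    | zero => ext i j; fin_cases i <;> fin_cases j <;> simp
    | succ k ih =>
      rw [pow_succ, ih]
      ext i j; fin_cases i <;> fin_cases j <;> simp [g, add_comm]
  refine ⟨(g : PGL F), orderOf_eq_prime ?_ ?_⟩
  · rw [← QuotientGroup.mk_pow, mk_eq_one_iff]
    refine ⟨1, ?_⟩
    rw [Units.val_pow_eq_pow_val, hpow, CharP.cast_eq_zero, one_smul]
    ext i j; fin_cases i <;> fin_cases j <;> simp
  · rw [Ne, mk_eq_one_iff]
    rintro ⟨r, hr⟩
    have := congrFun₂ hr 0 1
    simp [g] at this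

/-- The matrix of multiplication by an element of a quadratic algebra. -/
def toMat (δ : F) (z : QuadraticAlgebra F δ 0) : Matrix (Fin 2) (Fin 2) F :=
  !![z.re, δ * z.im; z.im, z.re]

omit [Fintype F] in
theorem toMat_mul (δ : F) (z w : QuadraticAlgebra F δ 0) :
    toMat δ (z * w) = toMat δ z * toMat δ w := by
  ext i j
  fin_cases i <;> fin_cases j <;> simp [toMat] <;> ring

omit [Fintype F] in
theorem toMat_one (δ : F) : toMat δ 1 = 1 := by
  ext i j
  fin_cases i <;> fin_cases j <;> simp [toMat, show (1 : QuadraticAlgebra F δ 0).re = 1 from rfl,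
    show (1 : QuadraticAlgebra F δ 0).im = 0 from rfl]

/-- `toMat` as a monoid homomorphism. -/
def toMatHom (δ : F) : QuadraticAlgebra F δ 0 →* Matrix (Fin 2) (Fin 2) F :=
  ⟨⟨toMat δ, toMat_one δ⟩, toMat_mul δ⟩

theorem exists_nonsplit (hodd : ringChar F ≠ 2) :
    ∃ M : Matrix (Fin 2) (Fin 2) F, M.det ≠ 0 ∧
      ∀ k : ℕ, (∃ r : F, M ^ k = r • 1) → Fintype.card F + 1 ∣ k := by
  obtain ⟨δ, hδ⟩ := FiniteField.exists_nonsquare (F := F) hodd
  haveI : Fact (∀ r : F, r ^ 2 ≠ δ + 0 * r) :=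
    ⟨fun r h => hδ ⟨r, by linear_combination -h⟩⟩
  haveI : Finite (QuadraticAlgebra F δ 0) := Finite.of_equiv _ (QuadraticAlgebra.equivProd δ 0).symm
  obtain ⟨z, hz⟩ := exists_gen (QuadraticAlgebra F δ 0)
  have hcardK : Nat.card (QuadraticAlgebra F δ 0) = Fintype.card F ^ 2 := by
    rw [Nat.card_congr (QuadraticAlgebra.equivProd δ 0), Nat.card_prod, Nat.card_eq_fintype_card,
      pow_two]
  refine ⟨toMatHom δ z, ?_, ?_⟩
  · have h1 : toMatHom δ z * toMatHom δ (z⁻¹ : (QuadraticAlgebra F δ 0)ˣ) = 1 := by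
      rw [← map_mul, ← Units.val_mul, mul_inv_cancel, Units.val_one, map_one]
    intro h0
    have := congrArg Matrix.det h1
    rw [Matrix.det_mul, h0, zero_mul, Matrix.det_one] at this
    exact zero_ne_one this
  · rintro k ⟨r, hr⟩
    rw [← map_pow, ← Units.val_pow_eq_pow_val] at hr
    have e00 := congrFun₂ hr 0 0
    have e10 := congrFun₂ hr 1 0
    simp [toMatHom, toMat] at e00 e10
    have hC : ((z ^ k : (QuadraticAlgebra F δ 0)ˣ) : QuadraticAlgebra F δ 0) =
        algebraMap F (QuadraticAlgebra F δ 0) r := by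
      ext
      · rw [Units.val_pow_eq_pow_val, e00]; simp
      · rw [Units.val_pow_eq_pow_val, e10]; simp
    have hr0 : r ≠ 0 := by
      rintro rfl
      rw [map_zero] at hC
      exact (z ^ k).ne_zero hC
    have h1 : z ^ (k * (Fintype.card F - 1)) = 1 := by
      apply Units.ext
      rw [pow_mul, Units.val_pow_eq_pow_val, hC, ← map_pow,
        FiniteField.pow_card_sub_one_eq_one r hr0, map_one, Units.val_one]
    have hdvd := orderOf_dvd_of_pow_eq_one h1
    rw [hz, hcardK, show Fintype.card F ^ 2 - 1 = (Fintype.card F + 1) * (Fintype.card F - 1) by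
      rw [← Nat.sq_sub_sq, one_pow]] at hdvd
    exact (Nat.mul_dvd_mul_iff_right (by
      have := Fintype.one_lt_card (α := F); omega)).mp hdvd

theorem three_le_card (hodd : ringChar F ≠ 2) : 3 ≤ Fintype.card F := by
  have := Fintype.one_lt_card (α := F)
  have := FiniteField.odd_card_of_char_ne_two hodd
  omega

theorem ringChar_le_card : ringChar F ≤ Fintype.card F := by
  obtain ⟨n, hp, hq⟩ := FiniteField.card F (ringChar F)
  rw [hq]; exact Nat.le_self_pow n.2.ne' _

theorem exists_order_succ (hodd : ringChar F ≠ 2) :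
    ∃ x : PGL F, orderOf x = Fintype.card F + 1 := by
  obtain ⟨M, hdet, hM⟩ := exists_nonsplit (F := F) hodd
  obtain ⟨g, hg⟩ := (Matrix.isUnit_iff_isUnit_det M).mpr (isUnit_iff_ne_zero.mpr hdet)
  refine ⟨(g : PGL F), ?_⟩
  have hdvd : Fintype.card F + 1 ∣ orderOf (g : PGL F) := by
    have h := pow_orderOf_eq_one (g : PGL F)
    rw [← QuotientGroup.mk_pow, mk_eq_one_iff] at h
    obtain ⟨r, hr⟩ := h
    exact hM _ ⟨r, by rw [← hg, ← Units.val_pow_eq_pow_val, hr]⟩
  rcases orderOf_dvd_cases hodd (g : PGL F) with h | h | h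
  · have := Nat.le_of_dvd (CharP.char_is_prime F (ringChar F)).pos (hdvd.trans h)
    have := ringChar_le_card (F := F)
    omega
  · have := three_le_card (F := F) hodd
    have := Nat.le_of_dvd (by omega) (hdvd.trans h)
    omega
  · exact Nat.dvd_antisymm h hdvd

/-- The element orders of PGL(2,F), q = |F| odd. -/
theorem range_orderOf (hodd : ringChar F ≠ 2) :
    Set.range (orderOf : PGL F → ℕ) =
      {n | n ∣ ringChar F ∨ n ∣ Fintype.card F - 1 ∨ n ∣ Fintype.card F + 1} := by
  ext n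
  constructor
  · rintro ⟨x, rfl⟩; exact orderOf_dvd_cases hodd x
  · rintro (h | h | h)
    · exact mem_range_orderOf_of_dvd exists_order_char h
    · exact mem_range_orderOf_of_dvd (exists_order_pred hodd) h
    · exact mem_range_orderOf_of_dvd (exists_order_succ hodd) h

/-! ### PSL -/

omit [Fintype F] in
theorem psl_mk_eq_one_iff (g : Matrix.SpecialLinearGroup (Fin 2) F) :
    (g : Matrix.ProjectiveSpecialLinearGroup (Fin 2) F) = 1 ↔
      (g : Matrix (Fin 2) (Fin 2) F) = 1 ∨ (g : Matrix (Fin 2) (Fin 2) F) = -1 := by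
  rw [QuotientGroup.eq_one_iff, Matrix.SpecialLinearGroup.mem_center_iff]
  constructor
  · rintro ⟨r, hr, h⟩
    rw [Fintype.card_fin, sq_eq_one_iff] at hr
    rcases hr with rfl | rfl
    · left; rw [← h, map_one]
    · right; rw [← h, map_neg, map_one]
  · rintro (h | h)
    · exact ⟨1, one_pow _, by rw [h, map_one]⟩
    · exact ⟨-1, by simp, by rw [h, map_neg, map_one]⟩

omit [Fintype F] in
theorem psl_mk_eq_iff (g h : Matrix.SpecialLinearGroup (Fin 2) F) :
    (g : Matrix.ProjectiveSpecialLinearGroup (Fin 2) F) = h ↔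
      (g : Matrix (Fin 2) (Fin 2) F) = h ∨ (g : Matrix (Fin 2) (Fin 2) F) = -h := by
  rw [← mul_inv_eq_one, ← QuotientGroup.mk_inv, ← QuotientGroup.mk_mul, psl_mk_eq_one_iff]
  have : ∀ c : Matrix (Fin 2) (Fin 2) F,
      ((g * h⁻¹ : Matrix.SpecialLinearGroup (Fin 2) F) : Matrix (Fin 2) (Fin 2) F) = c ↔
      (g : Matrix (Fin 2) (Fin 2) F) = c * (h : Matrix (Fin 2) (Fin 2) F) := by
    intro c
    constructor
    · intro e
      rw [← e, ← Matrix.SpecialLinearGroup.coe_mul, inv_mul_cancel_right]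
    · intro e
      rw [Matrix.SpecialLinearGroup.coe_mul, e, mul_assoc, ← Matrix.SpecialLinearGroup.coe_mul,
        mul_inv_cancel, Matrix.SpecialLinearGroup.coe_one, mul_one]
  rw [this, this, one_mul, neg_one_mul]

/-- Element orders in PSL(2,F) according to the discriminant. -/
theorem psl_orderOf_dvd (hodd : ringChar F ≠ 2) (g : Matrix.SpecialLinearGroup (Fin 2) F) :
    (disc (g : Matrix (Fin 2) (Fin 2) F) = 0 ∧
        orderOf (g : Matrix.ProjectiveSpecialLinearGroup (Fin 2) F) ∣ ringChar F) ∨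
      (disc (g : Matrix (Fin 2) (Fin 2) F) ≠ 0 ∧
        orderOf (g : Matrix.ProjectiveSpecialLinearGroup (Fin 2) F) ∣ (Fintype.card F - 1) / 2) ∨
      (disc (g : Matrix (Fin 2) (Fin 2) F) ≠ 0 ∧
        orderOf (g : Matrix.ProjectiveSpecialLinearGroup (Fin 2) F) ∣ (Fintype.card F + 1) / 2) := by
  have ho := FiniteField.odd_card_of_char_ne_two hodd
  have h2 := two_ne_zero_of_odd hodd
  have key : ∀ k, (g : Matrix (Fin 2) (Fin 2) F) ^ k * (g : Matrix (Fin 2) (Fin 2) F) ^ k = 1 →
      orderOf (g : Matrix.ProjectiveSpecialLinearGroup (Fin 2) F) ∣ k := by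
    intro k h
    rw [orderOf_dvd_iff_pow_eq_one, ← QuotientGroup.mk_pow, psl_mk_eq_one_iff,
      Matrix.SpecialLinearGroup.coe_pow]
    exact scalar_of_sq_one h2 (by rw [Matrix.det_pow, g.2, one_pow]) h
  rcases scalar_pow hodd (g : Matrix (Fin 2) (Fin 2) F) (by rw [g.2]; exact one_ne_zero) with
    ⟨hD, r, h⟩ | ⟨hD, h⟩ | ⟨hD, h⟩
  · refine Or.inl ⟨hD, key _ ?_⟩
    have hr : r ^ 2 = 1 := by
      have := congrArg Matrix.det h
      rw [Matrix.det_pow, g.2, one_pow, Matrix.det_smul, Matrix.det_one, mul_one,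
        Fintype.card_fin] at this
      exact this.symm
    rw [h, smul_mul_assoc, one_mul, smul_smul, ← pow_two, hr, one_smul]
  · refine Or.inr (Or.inl ⟨hD, key _ ?_⟩)
    rw [← pow_add, show (Fintype.card F - 1) / 2 + (Fintype.card F - 1) / 2 = Fintype.card F - 1 by
      omega, h]
  · refine Or.inr (Or.inr ⟨hD, key _ ?_⟩)
    rw [← pow_add, show (Fintype.card F + 1) / 2 + (Fintype.card F + 1) / 2 = Fintype.card F + 1 by
      omega, h, g.2, one_smul]

theorem psl_exists_split (hodd : ringChar F ≠ 2) :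
    ∃ g : Matrix.SpecialLinearGroup (Fin 2) F,
      orderOf (g : Matrix.ProjectiveSpecialLinearGroup (Fin 2) F) = (Fintype.card F - 1) / 2 := by
  have ho := FiniteField.odd_card_of_char_ne_two hodd
  obtain ⟨a, ha⟩ := exists_gen F
  rw [Nat.card_eq_fintype_card] at ha
  let g : Matrix.SpecialLinearGroup (Fin 2) F :=
    ⟨!![(a : F), 0; 0, ((a⁻¹ : Fˣ) : F)], by simp [Matrix.det_fin_two]⟩
  have hpow : ∀ k : ℕ, ((g : Matrix (Fin 2) (Fin 2) F)) ^ k =
      !![(a : F) ^ k, 0; 0, ((a⁻¹ : Fˣ) : F) ^ k] := by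
    intro k
    induction k with
    | zero => ext i j; fin_cases i <;> fin_cases j <;> simp
    | succ k ih =>
      rw [pow_succ, ih]
      ext i j; fin_cases i <;> fin_cases j <;> simp [g, pow_succ]
  refine ⟨g, Nat.dvd_antisymm ?_ ?_⟩
  · rw [orderOf_dvd_iff_pow_eq_one, ← QuotientGroup.mk_pow, psl_mk_eq_one_iff,
      Matrix.SpecialLinearGroup.coe_pow]
    refine scalar_of_sq_one (two_ne_zero_of_odd hodd) (by rw [Matrix.det_pow, g.2, one_pow]) ?_
    rw [← pow_add, hpow, show (Fintype.card F - 1) / 2 + (Fintype.card F - 1) / 2 =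
      Fintype.card F - 1 by omega, FiniteField.pow_card_sub_one_eq_one _ a.ne_zero,
      FiniteField.pow_card_sub_one_eq_one _ (a⁻¹).ne_zero]
    ext i j; fin_cases i <;> fin_cases j <;> simp
  · set n := orderOf (g : Matrix.ProjectiveSpecialLinearGroup (Fin 2) F) with hn
    have h := pow_orderOf_eq_one (g : Matrix.ProjectiveSpecialLinearGroup (Fin 2) F)
    rw [← hn, ← QuotientGroup.mk_pow, psl_mk_eq_one_iff, Matrix.SpecialLinearGroup.coe_pow,
      hpow] at h
    have h2 : a ^ (2 * n) = 1 := by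
      apply Units.ext
      rw [Units.val_pow_eq_pow_val, Units.val_one, mul_comm, pow_mul]
      rcases h with h | h <;> have := congrFun₂ h 0 0 <;> simp at this <;> simp [this]
    have := orderOf_dvd_of_pow_eq_one h2
    rw [ha, show Fintype.card F - 1 = 2 * ((Fintype.card F - 1) / 2) by omega] at this
    exact Nat.dvd_of_mul_dvd_mul_left two_pos this

theorem psl_exists_nonsplit (hodd : ringChar F ≠ 2) :
    ∃ g : Matrix.SpecialLinearGroup (Fin 2) F,
      (Fintype.card F + 1) / 2 ∣ orderOf (g : Matrix.ProjectiveSpecialLinearGroup (Fin 2) F) := by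
  have ho := FiniteField.odd_card_of_char_ne_two hodd
  obtain ⟨M, hdet, hM⟩ := exists_nonsplit (F := F) hodd
  let g : Matrix.SpecialLinearGroup (Fin 2) F := ⟨M ^ (Fintype.card F - 1), by
    rw [Matrix.det_pow, FiniteField.pow_card_sub_one_eq_one _ hdet]⟩
  refine ⟨g, ?_⟩
  set n := orderOf (g : Matrix.ProjectiveSpecialLinearGroup (Fin 2) F) with hn
  have h := pow_orderOf_eq_one (g : Matrix.ProjectiveSpecialLinearGroup (Fin 2) F)
  rw [← hn, ← QuotientGroup.mk_pow, psl_mk_eq_one_iff, Matrix.SpecialLinearGroup.coe_pow] at h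
  have hd : Fintype.card F + 1 ∣ (Fintype.card F - 1) * n := by
    refine hM _ ?_
    rcases h with h | h
    · exact ⟨1, by rw [pow_mul, one_smul]; exact h⟩
    · exact ⟨-1, by rw [pow_mul, neg_one_smul]; exact h⟩
  have hcop : Nat.Coprime ((Fintype.card F + 1) / 2) ((Fintype.card F - 1) / 2) := by
    rw [show (Fintype.card F + 1) / 2 = (Fintype.card F - 1) / 2 + 1 by omega]
    exact Nat.coprime_self_add_left.mpr (Nat.coprime_one_left _)
  apply hcop.dvd_of_dvd_mul_left
  refine Nat.dvd_of_mul_dvd_mul_left two_pos ?_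
  rw [show 2 * ((Fintype.card F + 1) / 2) = Fintype.card F + 1 by omega, ← mul_assoc,
    show 2 * ((Fintype.card F - 1) / 2) = Fintype.card F - 1 by omega]
  exact hd

/-- With square nonzero discriminant the order in PSL divides `(q-1)/2`. -/
theorem psl_orderOf_dvd_of_isSquare (hodd : ringChar F ≠ 2) (g : Matrix.SpecialLinearGroup (Fin 2) F)
    (hD : disc (g : Matrix (Fin 2) (Fin 2) F) ≠ 0)
    (hsq : IsSquare (disc (g : Matrix (Fin 2) (Fin 2) F))) :
    orderOf (g : Matrix.ProjectiveSpecialLinearGroup (Fin 2) F) ∣ (Fintype.card F - 1) / 2 := by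
  have ho := FiniteField.odd_card_of_char_ne_two hodd
  have h2 := two_ne_zero_of_odd hodd
  have hq := pow_card_of_isSquare hodd (g : Matrix (Fin 2) (Fin 2) F) hD hsq
  rw [orderOf_dvd_iff_pow_eq_one, ← QuotientGroup.mk_pow, psl_mk_eq_one_iff,
    Matrix.SpecialLinearGroup.coe_pow]
  refine scalar_of_sq_one h2 (by rw [Matrix.det_pow, g.2, one_pow]) ?_
  rw [← pow_add, show (Fintype.card F - 1) / 2 + (Fintype.card F - 1) / 2 = Fintype.card F - 1 by
    omega]
  have hu : IsUnit (g : Matrix (Fin 2) (Fin 2) F) :=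
    (Matrix.isUnit_iff_isUnit_det _).mpr (by rw [g.2]; exact isUnit_one)
  refine hu.mul_left_cancel ?_
  rw [← pow_succ', Nat.sub_add_cancel Fintype.card_pos, hq, mul_one]

end Cfsg.Agent.Spectrum.PGL2
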