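/-
Element orders of alternating groups via cycle types.
-/
import Mathlib.GroupTheory.Perm.Cycle.PossibleTypes
import Mathlib.GroupTheory.SpecificGroups.Alternating
import Mathlib.Data.Multiset.Sort

set_option autoImplicit false

namespace Cfsg.Agent.AltOrders

open Equiv

theorem mem_range_iff (n o : ℕ) :
    o ∈ Set.range (orderOf : alternatingGroup (Fin n) → ℕ) ↔
      ∃ m : Multiset ℕ, m.sum ≤ n ∧ (∀ a ∈ m, 2 ≤ a) ∧ Even (m.sum + Multiset.card m) ∧
        m.lcm = o := by
  constructor
  · rintro ⟨⟨g, hg⟩, rfl⟩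
    refine ⟨g.cycleType, ?_, fun a ha => Perm.two_le_of_mem_cycleType ha, ?_, ?_⟩
    · simpa using g.sum_cycleType_le
    · rw [Perm.mem_alternatingGroup, Perm.sign_of_cycleType] at hg
      exact (neg_one_pow_eq_one_iff_even (by decide)).1 hg
    · rw [Perm.lcm_cycleType, Subgroup.orderOf_mk]
  · rintro ⟨m, h1, h2, h3, rfl⟩
    obtain ⟨g, hg⟩ := (Perm.exists_with_cycleType_iff (α := Fin n)).2 ⟨by simpa using h1, h2⟩
    have hs : g ∈ alternatingGroup (Fin n) := by
      rw [Perm.mem_alternatingGroup, Perm.sign_of_cycleType, hg, h3.neg_one_pow]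
    exact ⟨⟨g, hs⟩, by rw [Subgroup.orderOf_mk, ← Perm.lcm_cycleType, hg]⟩

theorem exists_dvd_of_prime_dvd_lcm {p : ℕ} (hp : p.Prime) (m : Multiset ℕ) (h : p ∣ m.lcm) :
    ∃ a ∈ m, p ∣ a := by
  induction m using Multiset.induction_on with
  | empty => exact absurd (by simpa using h) hp.one_lt.ne'
  | cons a s ih =>
    rw [Multiset.lcm_cons] at h
    rcases hp.dvd_mul.1 (h.trans (Nat.lcm_dvd_mul a s.lcm)) with h' | h'
    · exact ⟨a, Multiset.mem_cons_self _ _, h'⟩
    · obtain ⟨b, hb, hb'⟩ := ih h'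
      exact ⟨b, Multiset.mem_cons_of_mem hb, hb'⟩

theorem even_sum_add_card (m : Multiset ℕ) (h : ∀ x ∈ m, Odd x) :
    Even (m.sum + Multiset.card m) := by
  induction m using Multiset.induction_on with
  | empty => simp
  | cons a s ih =>
    have h1 := h a (Multiset.mem_cons_self _ _)
    have h2 := ih fun x hx => h x (Multiset.mem_cons_of_mem hx)
    rw [Multiset.sum_cons, Multiset.card_cons]
    rw [Nat.odd_iff] at h1
    rw [Nat.even_iff] at h2 ⊢
    omega

theorem le_sum_pair {m : Multiset ℕ} {a b : ℕ} (ha : a ∈ m) (hb : b ∈ m) (hne : a ≠ b) :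
    a + b ≤ m.sum := by
  obtain ⟨t, rfl⟩ := Multiset.exists_cons_of_mem ha
  rcases Multiset.mem_cons.1 hb with h | h
  · exact absurd h.symm hne
  · have := Multiset.le_sum_of_mem h
    rw [Multiset.sum_cons]
    omega

/-- All descending lists of numbers between 2 and `hi` of sum at most `n`, of length at most `fuel`. -/
def enum : ℕ → ℕ → ℕ → List (List ℕ)
  | 0, _, _ => [[]]
  | fuel + 1, n, hi => [] :: (List.range (min n hi + 1)).flatMap fun a =>
      if 2 ≤ a then (enum fuel (n - a) a).map (a :: ·) else []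

theorem mem_enum : ∀ (fuel n hi : ℕ) (l : List ℕ), l.length ≤ fuel → l.sum ≤ n →
    (∀ a ∈ l, 2 ≤ a ∧ a ≤ hi) → l.Pairwise (fun x y => y ≤ x) → l ∈ enum fuel n hi := by
  intro fuel
  induction fuel with
  | zero =>
    intro n hi l hl _ _ _
    rw [List.eq_nil_of_length_eq_zero (by omega : l.length = 0)]
    simp [enum]
  | succ f ih =>
    intro n hi l hl hs hb hp
    cases l with
    | nil => simp [enum]
    | cons a t =>
      simp only [List.sum_cons] at hs
      simp only [List.length_cons] at hl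
      obtain ⟨h2, hh⟩ := hb a List.mem_cons_self
      rw [List.pairwise_cons] at hp
      have ht := ih (n - a) a t (by omega) (by omega)
        (fun x hx => ⟨(hb x (List.mem_cons_of_mem _ hx)).1, hp.1 x hx⟩) hp.2
      simp only [enum, List.mem_cons, List.cons_ne_nil, false_or, List.mem_flatMap, List.mem_range]
      refine ⟨a, by omega, ?_⟩
      rw [if_pos h2]
      exact List.mem_map.2 ⟨t, ht, rfl⟩

/-- The element orders are read off from the enumeration. -/
theorem exists_enum {n o : ℕ} (h : o ∈ Set.range (orderOf : alternatingGroup (Fin n) → ℕ)) :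
    ∃ l ∈ enum n n n, (l.sum + l.length) % 2 = 0 ∧ l.foldr Nat.lcm 1 = o := by
  obtain ⟨m, h1, h2, h3, h4⟩ := (mem_range_iff n o).1 h
  obtain ⟨l, hl, hp⟩ : ∃ l : List ℕ, (l : Multiset ℕ) = m ∧ l.Pairwise (fun x y => y ≤ x) :=
    ⟨m.sort (fun x y => y ≤ x), Multiset.sort_eq _ _, Multiset.pairwise_sort _ _⟩
  subst hl
  rw [Multiset.sum_coe] at h1 h3
  rw [Multiset.coe_card] at h3
  have hlen : l.length ≤ l.sum := by
    have := List.card_nsmul_le_sum l 1 fun x hx => by have := h2 x (by simpa using hx); omega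
    simpa using this
  refine ⟨l, mem_enum n n n l (by omega) h1 (fun a ha => ⟨h2 a (by simpa using ha), ?_⟩) hp,
    Nat.even_iff.1 h3, by rw [← h4]; rfl⟩
  have := List.le_sum_of_mem ha
  omega

end Cfsg.Agent.AltOrders
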