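import Mathlib.GroupTheory.PGroup
import Mathlib.GroupTheory.Sylow
import Cfsg.Agent.Lib.Solvable.Basic
import Cfsg.Agent.Lib.Recog.CharSimple

/-!
Primes without common element order lie in one chief factor.
-/

set_option autoImplicit false

namespace Cfsg.Agent.PrimeChief

variable {G : Type*} [Group G] [Finite G]

/-- An element of order `s` normalising an `r`-group of order `≢ 1 (mod s)` gives an element of
order `r * s`. -/
theorem exists_order_mul {r s : ℕ} (hr : r.Prime) (hs : s.Prime) (hne : r ≠ s)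
    (Q : Subgroup G) (hQ : IsPGroup r Q) (hmod : Nat.card Q % s ≠ 1)
    (y : G) (hy : orderOf y = s) (hyN : y ∈ Subgroup.normalizer (Q : Set G)) :
    ∃ z : G, orderOf z = r * s := by
  have := Fact.mk hr
  have := Fact.mk hs
  let Y : Subgroup (Subgroup.normalizer (Q : Set G)) := Subgroup.zpowers ⟨y, hyN⟩
  have hY : IsPGroup s Y := by
    refine IsPGroup.of_card (n := 1) ?_
    rw [pow_one, Nat.card_zpowers, Subgroup.orderOf_mk, hy]
  let f : Y →* MulAut Q := (Subgroup.normalizerMonoidHom Q).comp Y.subtype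
  letI : MulAction Y Q := MulAction.compHom _ f
  have hfix := hY.card_modEq_card_fixedPoints Q
  obtain ⟨x, hx, hx1⟩ : ∃ x ∈ MulAction.fixedPoints Y Q, x ≠ (1 : Q) := by
    by_contra hcon
    simp only [not_exists, not_and, not_not] at hcon
    have hsub : MulAction.fixedPoints Y Q = ({1} : Set Q) := by
      refine Set.eq_singleton_iff_unique_mem.2 ⟨fun a => ?_, hcon⟩
      exact map_one (f a)
    rw [hsub, Nat.card_coe_set_eq, Set.ncard_singleton] at hfix
    exact hmod (Eq.trans hfix (Nat.mod_eq_of_lt hs.one_lt))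
  have hcomm : Commute y (x : G) := by
    have h := congrArg Subtype.val (hx ⟨⟨y, hyN⟩, Subgroup.mem_zpowers _⟩)
    change y * (x : G) * y⁻¹ = (x : G) at h
    exact mul_inv_eq_iff_eq_mul.1 h
  obtain ⟨k, hk⟩ := IsPGroup.iff_orderOf.1 hQ x
  have hk0 : k ≠ 0 := fun h0 => hx1 (orderOf_eq_one_iff.1 (by rw [hk, h0, pow_zero]))
  obtain ⟨j, rfl⟩ := Nat.exists_eq_succ_of_ne_zero hk0
  have hxr : orderOf ((x : G) ^ r ^ j) = r := by
    rw [orderOf_pow_of_dvd (pow_pos hr.pos j).ne' (by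
      rw [Subgroup.orderOf_coe, hk]; exact pow_dvd_pow r j.le_succ), Subgroup.orderOf_coe, hk,
      pow_succ, Nat.mul_div_cancel_left _ (pow_pos hr.pos j)]
  refine ⟨(x : G) ^ r ^ j * y, ?_⟩
  rw [(hcomm.symm.pow_left _).orderOf_mul_eq_mul_orderOf_of_coprime
    (by rw [hxr, hy]; exact (Nat.coprime_primes hr hs).2 hne), hxr, hy]

/-- The Frattini argument: a normal subgroup meeting `r` but not `s` gives an element of order
`r * s`. -/
theorem exists_order_mul_of_normal {r s : ℕ} (hr : r.Prime) (hs : s.Prime) (hne : r ≠ s)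
    (N : Subgroup G) [hN : N.Normal] (hrN : r ∣ Nat.card N) (hsN : ¬ s ∣ Nat.card N)
    (hsG : s ∣ Nat.card G) (hmod : ∀ j : ℕ, 1 ≤ j → r ^ j ∣ Nat.card G → r ^ j % s ≠ 1) :
    ∃ z : G, orderOf z = r * s := by
  have := Fact.mk hr
  have := Fact.mk hs
  obtain ⟨P⟩ : Nonempty (Sylow r N) := inferInstance
  set Q : Subgroup G := (P : Subgroup N).map N.subtype with hQdef
  have htop : Subgroup.normalizer (Q : Set G) ⊔ N = ⊤ := Sylow.normalizer_sup_eq_top P
  have hs' : s ∣ Nat.card (Subgroup.normalizer (Q : Set G)) := by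
    have h1 : Nat.card (Subgroup.normalizer (Q : Set G) ⊔ N : Subgroup G) ∣
        Nat.card (Subgroup.normalizer (Q : Set G)) * Nat.card N := by
      rw [sup_comm]
      exact ⟨Nat.card (N ⊓ Subgroup.normalizer (Q : Set G) : Subgroup G),
        by rw [mul_comm (Nat.card (Subgroup.normalizer (Q : Set G)))];
           exact (SolvBasic.card_sup_mul_card_inf Subgroup.le_normalizer_of_normal).symm⟩
    rw [htop, Subgroup.card_top] at h1
    exact (hs.dvd_mul.1 (hsG.trans h1)).resolve_right hsN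
  obtain ⟨y, hy⟩ := exists_prime_orderOf_dvd_card' s hs'
  have hQp : IsPGroup r Q := P.isPGroup'.map _
  have hcard : Nat.card Q = Nat.card (P : Subgroup N) :=
    Subgroup.card_map_of_injective N.subtype_injective
  obtain ⟨j, hj⟩ := IsPGroup.iff_card.1 hQp
  refine exists_order_mul hr hs hne Q hQp ?_ (y : G) (by rw [Subgroup.orderOf_coe, hy]) y.2
  rw [hj]
  refine hmod j ?_ (hj ▸ Q.card_subgroup_dvd_card)
  rw [Nat.one_le_iff_ne_zero]
  rintro rfl
  rw [pow_zero, hcard, Subgroup.card_eq_one] at hj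
  exact P.ne_bot_of_dvd_card hrN hj

/-- Two primes without an element of order their product divide a common chief factor. -/
theorem exists_chief_factor (S : Set ℕ) (hS : ∀ r ∈ S, r.Prime ∧ r ∣ Nat.card G)
    (hne : S.Nonempty)
    (hno : ∀ r ∈ S, ∀ s ∈ S, r ≠ s → (∀ z : G, orderOf z ≠ r * s) ∧
      ∀ j : ℕ, 1 ≤ j → r ^ j ∣ Nat.card G → r ^ j % s ≠ 1) :
    ∃ (N H : Subgroup G) (_ : N.Normal), H.Normal ∧ N < H ∧
      (∀ K : Subgroup G, K.Normal → N ≤ K → K ≤ H → K = N ∨ K = H) ∧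
      ∀ r ∈ S, r ∣ Nat.card H ∧ ¬ r ∣ Nat.card N := by
  obtain ⟨N, -, hN⟩ := Finite.exists_le_maximal
    (p := fun K : Subgroup G => K.Normal ∧ ∀ r ∈ S, ¬ r ∣ Nat.card K) (a := ⊥)
    ⟨inferInstance, fun r hr h => (hS r hr).1.one_lt.ne'
      (Nat.dvd_one.1 (by rwa [Subgroup.card_bot] at h))⟩
  obtain ⟨⟨hNn, hNS⟩, hNmax⟩ := hN
  have := hNn
  have hNtop : N < ⊤ := by
    obtain ⟨r, hr⟩ := hne
    refine lt_top_iff_ne_top.2 fun h => hNS r hr ?_
    rw [h, Subgroup.card_top]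
    exact (hS r hr).2
  obtain ⟨H, -, hH⟩ := Finite.exists_le_minimal
    (p := fun K : Subgroup G => K.Normal ∧ N < K) (a := ⊤) ⟨inferInstance, hNtop⟩
  obtain ⟨⟨hHn, hNH⟩, hHmin⟩ := hH
  have := hHn
  obtain ⟨r₀, hr₀, hr₀H⟩ : ∃ r ∈ S, r ∣ Nat.card H := by
    by_contra h
    simp only [not_exists, not_and] at h
    exact hNH.not_ge (hNmax ⟨hHn, h⟩ hNH.le)
  refine ⟨N, H, hNn, hHn, hNH, fun K hK h1 h2 => ?_, fun r hr => ⟨?_, hNS r hr⟩⟩
  · rcases h1.lt_or_eq with h | h
    · exact Or.inr (le_antisymm h2 (hHmin ⟨hK, h⟩ h2))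
    · exact Or.inl h.symm
  · by_contra hrH
    have hne' : r₀ ≠ r := fun h => hrH (h ▸ hr₀H)
    obtain ⟨z, hz⟩ := exists_order_mul_of_normal (hS r₀ hr₀).1 (hS r hr).1 hne' H hr₀H hrH
      (hS r hr).2 (hno r₀ hr₀ r hr hne').2
    exact (hno r₀ hr₀ r hr hne').1 z hz

/-- The chief factor is simple non-abelian once it contains two primes, one of them to the first
power only. -/
theorem simple_of_factor (N H : Subgroup G) [hNn : N.Normal] (hHn : H.Normal) (hNH : N < H)
    (hmin : ∀ K : Subgroup G, K.Normal → N ≤ K → K ≤ H → K = N ∨ K = H)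
    {r s : ℕ} (hr : r.Prime) (hs : s.Prime) (hne : r ≠ s)
    (hrH : r ∣ Nat.card H) (hsH : s ∣ Nat.card H)
    (hrN : ¬ r ∣ Nat.card N) (hsN : ¬ s ∣ Nat.card N) :
    ¬ Group.IsSolvable G ∧ (¬ r ^ 2 ∣ Nat.card G →
      IsSimpleGroup (↥H ⧸ N.subgroupOf H) ∧ ¬ IsMulCommutative (↥H ⧸ N.subgroupOf H)) := by
  set π := QuotientGroup.mk' N with hπ
  have hM : (H.map π).Normal := hHn.map π (QuotientGroup.mk'_surjective N)
  have hker : π.ker = N := QuotientGroup.ker_mk' N
  have hne' : H.map π ≠ ⊥ := fun h =>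
    hNH.not_ge (hker ▸ (Subgroup.map_eq_bot_iff H).1 h)
  have hminM : ∀ K : Subgroup (G ⧸ N), K.Normal → K ≤ H.map π → K = ⊥ ∨ K = H.map π := by
    intro K hK hle
    have hmc : (K.comap π).map π = K :=
      Subgroup.map_comap_eq_self_of_surjective (QuotientGroup.mk'_surjective N) K
    rcases hmin (K.comap π) (hK.comap π) (hker.symm.trans_le (π.ker_le_comap K)) (by
      refine (Subgroup.comap_mono hle).trans ?_
      rw [Subgroup.comap_map_eq, hker, sup_eq_left.2 hNH.le]) with h | h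
    · exact Or.inl (by rw [← hmc, h, hπ, QuotientGroup.map_mk'_self])
    · exact Or.inr (by rw [← hmc, h])
  have e : (↥H ⧸ N.subgroupOf H) ≃* H.map π := by
    refine (QuotientGroup.quotientMulEquivOfEq ?_).trans
      (QuotientGroup.quotientKerEquivOfSurjective _ (π.subgroupMap_surjective H))
    rw [H.ker_subgroupMap π, hker]
  have hdvd : ∀ p : ℕ, p.Prime → p ∣ Nat.card H → ¬ p ∣ Nat.card N → p ∣ Nat.card (H.map π) := by
    intro p hp hpH hpN
    rw [← Nat.card_congr e.toEquiv]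
    rw [Subgroup.card_eq_card_quotient_mul_card_subgroup (N.subgroupOf H),
      Nat.card_congr (Subgroup.subgroupOfEquivOfLe hNH.le).toEquiv] at hpH
    exact (hp.dvd_mul.1 hpH).resolve_right hpN
  have hr' := hdvd r hr hrH hrN
  have hs' := hdvd s hs hsH hsN
  have hnc : ¬ IsMulCommutative (H.map π) := fun hc => by
    obtain ⟨p, hp, -, hpg⟩ := SolvBasic.exists_prime_exponent_of_minimal_normal hne' hminM
    have := Fact.mk hp
    obtain ⟨k, hk⟩ := IsPGroup.iff_card.1 hpg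
    rw [hk] at hr' hs'
    exact hne (((Nat.prime_dvd_prime_iff_eq hr hp).1 (hr.dvd_of_dvd_pow hr')).trans
      ((Nat.prime_dvd_prime_iff_eq hs hp).1 (hs.dvd_of_dvd_pow hs')).symm)
  refine ⟨fun hsol => ?_, fun hr2 => ?_⟩
  · have := hsol
    exact hnc (SolvBasic.isMulCommutative_of_minimal_normal hne' hminM)
  obtain ⟨T, iT, m, hT, hm, ⟨f⟩⟩ := CharSimple.minimalNormal_iso_pi (H.map π) hne' hminM
  have : Finite (Fin m → T) := Finite.of_equiv _ f.toEquiv
  have : Finite T := Finite.of_surjective (fun g : Fin m → T => g ⟨0, hm⟩)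
    fun t => ⟨fun _ => t, rfl⟩
  have hTm : Nat.card (H.map π) = Nat.card T ^ m := by
    rw [Nat.card_congr f.toEquiv, Nat.card_fun, Nat.card_fin]
  have hm1 : m = 1 := by
    by_contra h1
    rw [hTm] at hr'
    exact hr2 ((pow_dvd_pow_of_dvd (hr.dvd_of_dvd_pow hr') 2).trans
      ((pow_dvd_pow _ (by omega : 2 ≤ m)).trans (hTm ▸ ((H.map π).card_subgroup_dvd_card).trans
        (Subgroup.card_quotient_dvd_card N))))
  subst hm1
  have := hT
  have e' : (↥H ⧸ N.subgroupOf H) ≃* T := e.trans (f.trans (MulEquiv.funUnique (Fin 1) T))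
  refine ⟨e'.isSimpleGroup_congr.2 hT, fun hc => hnc ?_⟩
  exact ⟨⟨fun a b => e.symm.injective (by rw [map_mul, map_mul]; exact mul_comm' _ _)⟩⟩

end Cfsg.Agent.PrimeChief
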