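import Mathlib.NumberTheory.Bertrand

/-!
Two primes in `(m, 2m]` for `6 ≤ m`: Erdős' proof of Bertrand's postulate with one prime allowed
in the range. Adapted from `Mathlib.NumberTheory.Bertrand` (Patrick Stevens, Bolton Bailey).
-/

set_option autoImplicit false

namespace Cfsg.Agent.TwoBertrand

open Real in
theorem real_ineq {x : ℝ} (x_large : (512 : ℝ) ≤ x) :
    x * (2 * x) * (2 * x) ^ √(2 * x) * 4 ^ (2 * x / 3) ≤ 4 ^ x := by
  let f : ℝ → ℝ := fun x => log 2 + (2 * log x) + √(2 * x) * log (2 * x) - log 4 / 3 * x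
  have hf' : ∀ x, 0 < x → 0 < x * (2 * x) * (2 * x) ^ √(2 * x) / 4 ^ (x / 3) := fun x h =>
    div_pos (mul_pos (mul_pos h (mul_pos two_pos h)) (rpow_pos_of_pos (mul_pos two_pos h) _))
      (rpow_pos_of_pos four_pos _)
  have hf : ∀ x, 0 < x → f x = log (x * (2 * x) * (2 * x) ^ √(2 * x) / 4 ^ (x / 3)) := by
    intro x h5
    have h6 := mul_pos (zero_lt_two' ℝ) h5
    have h7 := rpow_pos_of_pos h6 (√(2 * x))
    rw [log_div (mul_pos (mul_pos h5 h6) h7).ne' (rpow_pos_of_pos four_pos _).ne',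
      log_mul (mul_pos h5 h6).ne' h7.ne', log_mul h5.ne' h6.ne', log_rpow h6,
      log_rpow zero_lt_four, log_mul two_ne_zero h5.ne']
    simp only [f]
    rw [log_mul two_ne_zero h5.ne']
    ring
  have h5 : 0 < x := lt_of_lt_of_le (by norm_num1) x_large
  rw [← div_le_one (rpow_pos_of_pos four_pos x), ← div_div_eq_mul_div, ← rpow_sub four_pos, ←
    mul_div 2 x, mul_div_left_comm, ← mul_one_sub, (by norm_num1 : (1 : ℝ) - 2 / 3 = 1 / 3),
    mul_one_div, ← log_nonpos_iff (hf' x h5).le, ← hf x h5]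
  have h : ConcaveOn ℝ (Set.Ioi 0.5) f := by
    apply ConcaveOn.sub
    · apply ConcaveOn.add
      · refine (concaveOn_const _ (convex_Ioi 0.5)).add ?_
        exact (strictConcaveOn_log_Ioi.concaveOn.subset
          (Set.Ioi_subset_Ioi (by norm_num)) (convex_Ioi 0.5)).smul (by norm_num : (0:ℝ) ≤ 2)
      convert!
        ((strictConcaveOn_sqrt_mul_log_Ioi.concaveOn.comp_linearMap ((2 : ℝ) • LinearMap.id)))
        using 1
      ext x
      simp only [Set.mem_Ioi, Set.mem_preimage, LinearMap.smul_apply,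
        LinearMap.id_coe, id_eq, smul_eq_mul]
      rw [← mul_lt_mul_iff_right₀ (two_pos)]
      norm_num1
      rfl
    apply ConvexOn.smul
    · refine div_nonneg (log_nonneg (by norm_num1)) (by norm_num1)
    · exact convexOn_id (convex_Ioi (0.5 : ℝ))
  suffices ∃ x1 x2, 0.5 < x1 ∧ x1 < x2 ∧ x2 ≤ x ∧ 0 ≤ f x1 ∧ f x2 ≤ 0 by
    obtain ⟨x1, x2, h1, h2, h0, h3, h4⟩ := this
    exact (h.right_le_of_le_left'' h1 ((h1.trans h2).trans_le h0) h2 h0 (h4.trans h3)).trans h4
  refine ⟨18, 512, by norm_num1, by norm_num1, x_large, ?_, ?_⟩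
  · have : √(2 * 18 : ℝ) = 6 :=
      (sqrt_eq_iff_mul_self_eq_of_pos (by norm_num1)).mpr (by norm_num1)
    rw [hf _ (by norm_num1), log_nonneg_iff (by positivity), this, one_le_div (by norm_num1)]
    norm_num1
  · have : √(2 * 512) = 32 :=
      (sqrt_eq_iff_mul_self_eq_of_pos (by norm_num1)).mpr (by norm_num1)
    rw [hf _ (by norm_num1), log_nonpos_iff (hf' _ (by norm_num1)).le, this,
        div_le_one (by positivity)]
    rw [show ((512 : ℝ)) * (2 * 512) = 2 ^ (19 : ℝ) by norm_num,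
      show ((2 : ℝ) * 512) = 2 ^ (10 : ℝ) by norm_num,
      show ((4 : ℝ)) = 2 ^ (2 : ℝ) by norm_num,
      ← rpow_mul (by norm_num), ← rpow_mul (by norm_num), ← rpow_add (by norm_num)]
    apply rpow_le_rpow_of_exponent_le <;> norm_num

theorem main_ineq {n : ℕ} (n_large : 512 ≤ n) :
    n * (2 * n) * (2 * n) ^ Nat.sqrt (2 * n) * 4 ^ (2 * n / 3) ≤ 4 ^ n := by
  rw [← @Nat.cast_le ℝ]
  simp only [Nat.cast_mul, Nat.cast_pow, ← Real.rpow_natCast, Nat.cast_ofNat]
  refine _root_.trans ?_ (real_ineq (by exact_mod_cast n_large))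
  gcongr
  · have n2_pos : 0 < 2 * n := by positivity
    exact mod_cast n2_pos
  · exact_mod_cast Real.nat_sqrt_le_real_sqrt
  · norm_num1
  · exact Nat.cast_div_le.trans (by norm_cast)

open Nat in
theorem centralBinom_le (n q : ℕ) (n_large : 2 < n)
    (hone : ∀ p : ℕ, p.Prime → n < p → p ≤ 2 * n → p = q) :
    centralBinom n ≤ 2 * n * ((2 * n) ^ sqrt (2 * n) * 4 ^ (2 * n / 3)) := by
  have n_pos : 0 < n := (Nat.zero_le _).trans_lt n_large
  have n2_pos : 1 ≤ 2 * n := mul_pos (zero_lt_two' ℕ) n_pos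
  let S := {p ∈ Finset.range (2 * n / 3 + 1) | Nat.Prime p}
  let f x := x ^ n.centralBinom.factorization x
  have hfq : ∀ x, f x ≤ 2 * n := fun x => pow_factorization_choose_le (mul_pos two_pos n_pos)
  have heq : n.centralBinom = ∏ x ∈ (insert q S) ∩ Finset.range (2 * n + 1), f x := by
    refine ((Finset.prod_subset Finset.inter_subset_right ?_).trans
      n.prod_pow_factorization_centralBinom).symm
    intro x hx h2x
    simp only [Finset.mem_inter, hx, and_true, Finset.mem_insert, S, Finset.mem_filter,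
      Finset.mem_range] at h2x
    rw [not_or] at h2x
    by_cases hp : x.Prime
    · have hx' : 2 * n / 3 + 1 ≤ x := not_lt.1 fun h => h2x.2 ⟨h, hp⟩
      rw [Finset.mem_range] at hx
      have hxn : x ≤ n := not_lt.1 fun h => h2x.1 (hone x hp h (by omega))
      rw [factorization_centralBinom_of_two_mul_self_lt_three_mul n_large hxn (by omega),
        Nat.pow_zero]
    · rw [factorization_eq_zero_of_not_prime n.centralBinom hp, Nat.pow_zero]
  have hf1 : ∀ x ∈ S, 1 ≤ f x := fun x hx =>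
    Nat.one_le_pow _ _ (Finset.mem_filter.1 hx).2.pos
  have hstep : n.centralBinom ≤ 2 * n * ∏ x ∈ S, f x := by
    rw [heq]
    by_cases hq : q ∈ (insert q S) ∩ Finset.range (2 * n + 1)
    · rw [← Finset.mul_prod_erase _ _ hq]
      refine Nat.mul_le_mul (hfq q) (Finset.prod_le_prod_of_subset_of_one_le' ?_ fun x hx _ => hf1 x hx)
      intro x hx
      obtain ⟨h1, h2⟩ := Finset.mem_erase.1 hx
      exact (Finset.mem_insert.1 (Finset.mem_inter.1 h2).1).resolve_left h1
    · refine le_trans ?_ (Nat.le_mul_of_pos_left _ n2_pos)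
      refine Finset.prod_le_prod_of_subset_of_one_le' ?_ fun x hx _ => hf1 x hx
      intro x hx
      exact (Finset.mem_insert.1 (Finset.mem_inter.1 hx).1).resolve_left fun h => hq (h ▸ hx)
  refine hstep.trans (Nat.mul_le_mul le_rfl ?_)
  rw [← Finset.prod_filter_mul_prod_filter_not S (· ≤ sqrt (2 * n))]
  apply mul_le_mul'
  · refine (Finset.prod_le_prod' fun p _ => (hfq p : f p ≤ 2 * n)).trans ?_
    have : (Finset.Icc 1 (sqrt (2 * n))).card = sqrt (2 * n) := by
      rw [card_Icc, Nat.add_sub_cancel]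
    rw [Finset.prod_const]
    refine pow_right_mono₀ n2_pos ((Finset.card_le_card fun x hx => ?_).trans this.le)
    obtain ⟨h1, h2⟩ := Finset.mem_filter.1 hx
    exact Finset.mem_Icc.mpr ⟨(Finset.mem_filter.1 h1).2.one_lt.le, h2⟩
  · refine le_trans ?_ (primorial_le_four_pow (2 * n / 3))
    refine (Finset.prod_le_prod' fun p hp => (?_ : f p ≤ p)).trans ?_
    · obtain ⟨h1, h2⟩ := Finset.mem_filter.1 hp
      refine (pow_right_mono₀ (Finset.mem_filter.1 h1).2.one_lt.le ?_).trans (pow_one p).le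
      exact Nat.factorization_choose_le_one (sqrt_lt'.mp <| not_le.1 h2)
    refine Finset.prod_le_prod_of_subset_of_one_le' (Finset.filter_subset _ _) ?_
    exact fun p hp _ => (Finset.mem_filter.1 hp).2.one_lt.le

theorem two_primes_eventually (n : ℕ) (hn : 512 ≤ n) :
    ∃ p q : ℕ, p.Prime ∧ q.Prime ∧ p ≠ q ∧ n < p ∧ p ≤ 2 * n ∧ n < q ∧ q ≤ 2 * n := by
  obtain ⟨p, hp, hnp, hp2⟩ := Nat.exists_prime_lt_and_le_two_mul n (by omega)
  by_contra hcon
  have hone : ∀ x : ℕ, x.Prime → n < x → x ≤ 2 * n → x = p := fun x hx h1 h2 => by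
    by_contra hne
    exact hcon ⟨x, p, hx, hp, hne, h1, h2, hnp, hp2⟩
  have h1 := centralBinom_le n p (by omega) hone
  have h2 := Nat.four_pow_lt_mul_centralBinom n (by omega)
  have h3 := main_ineq hn
  have h4 := Nat.mul_le_mul (le_refl n) h1
  exact absurd ((h2.trans_le h4).trans_le ((le_of_eq (by ring)).trans h3)) (lt_irrefl _)

theorem cover_step {m : ℕ} (p q : ℕ) (hp : p.Prime) (hq : q.Prime) (hpq : p < q) (hm : m < p)
    (h : ¬ q ≤ 2 * m → ∃ a b : ℕ, a.Prime ∧ b.Prime ∧ a ≠ b ∧ m < a ∧ a ≤ 2 * m ∧ m < b ∧ b ≤ 2 * m) :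
    ∃ a b : ℕ, a.Prime ∧ b.Prime ∧ a ≠ b ∧ m < a ∧ a ≤ 2 * m ∧ m < b ∧ b ≤ 2 * m := by
  by_cases h2 : q ≤ 2 * m
  · exact ⟨p, q, hp, hq, hpq.ne, hm, by omega, by omega, h2⟩
  · exact h h2

/-- For `6 ≤ m` there are two primes in `(m, 2m]`. -/
theorem two_primes (m : ℕ) (hm : 6 ≤ m) :
    ∃ p q : ℕ, p.Prime ∧ q.Prime ∧ p ≠ q ∧ m < p ∧ p ≤ 2 * m ∧ m < q ∧ q ≤ 2 * m := by
  rcases lt_or_ge 511 m with h | h
  · exact two_primes_eventually m h
  refine cover_step 521 523 (by norm_num) (by norm_num) (by omega) (by omega) fun _ => ?_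
  refine cover_step 263 269 (by norm_num) (by norm_num) (by omega) (by omega) fun _ => ?_
  refine cover_step 137 139 (by norm_num) (by norm_num) (by omega) (by omega) fun _ => ?_
  refine cover_step 71 73 (by norm_num) (by norm_num) (by omega) (by omega) fun _ => ?_
  refine cover_step 37 41 (by norm_num) (by norm_num) (by omega) (by omega) fun _ => ?_
  refine cover_step 23 29 (by norm_num) (by norm_num) (by omega) (by omega) fun _ => ?_
  refine cover_step 17 19 (by norm_num) (by norm_num) (by omega) (by omega) fun _ => ?_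
  refine cover_step 11 13 (by norm_num) (by norm_num) (by omega) (by omega) fun _ => ?_
  refine cover_step 7 11 (by norm_num) (by norm_num) (by omega) (by omega) fun _ => ?_
  omega

end Cfsg.Agent.TwoBertrand
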