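import Mathlib.NumberTheory.Padics.PadicVal.Basic
import Cfsg.Agent.Lib.Spectrum.AltOrders
import Cfsg.Agent.Lib.Spectrum.TwoBertrand
import Cfsg.Agent.Lib.Spectrum.PrimeChief

/-!
The primes in `(n/2, n]` and the groups with the order and spectrum of the alternating group.
-/

set_option autoImplicit false

namespace Cfsg.Agent.AltBigPrimes

open Equiv

theorem no_order (n r s : ℕ) (hr : r.Prime) (hs : s.Prime) (hne : r ≠ s) (h : n < r + s) :
    r * s ∉ Set.range (orderOf : alternatingGroup (Fin n) → ℕ) := by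
  rw [AltOrders.mem_range_iff]
  rintro ⟨m, h1, h2, -, h4⟩
  obtain ⟨a, ha, hra⟩ := AltOrders.exists_dvd_of_prime_dvd_lcm hr m (h4 ▸ dvd_mul_right r s)
  obtain ⟨b, hb, hsb⟩ := AltOrders.exists_dvd_of_prime_dvd_lcm hs m (h4 ▸ dvd_mul_left s r)
  have la := Nat.le_of_dvd (by have := h2 a ha; omega) hra
  have lb := Nat.le_of_dvd (by have := h2 b hb; omega) hsb
  have hsa := Multiset.le_sum_of_mem ha
  rcases eq_or_ne a b with rfl | hab
  · have := Nat.le_of_dvd (by have := h2 a ha; omega)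
      (((Nat.coprime_primes hr hs).2 hne).mul_dvd_of_dvd_of_dvd hra hsb)
    nlinarith [hr.two_le, hs.two_le]
  · have := AltOrders.le_sum_pair ha hb hab
    omega

theorem two_mul_card (n : ℕ) (hn : 2 ≤ n) :
    2 * Nat.card (alternatingGroup (Fin n)) = n.factorial := by
  haveI : Nontrivial (Fin n) := Fin.nontrivial_iff_two_le.2 hn
  rw [Nat.card_eq_fintype_card, two_mul_card_alternatingGroup, Fintype.card_perm, Fintype.card_fin]

theorem dvd_card (n p : ℕ) (hp : p.Prime) (hp3 : 3 ≤ p) (hpn : p ≤ n) :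
    p ∣ Nat.card (alternatingGroup (Fin n)) := by
  have h : p ∣ 2 * Nat.card (alternatingGroup (Fin n)) := by
    rw [two_mul_card n (by omega)]
    exact Nat.dvd_factorial hp.pos hpn
  exact (hp.dvd_mul.1 h).resolve_left fun h2 => by
    have := Nat.le_of_dvd (by omega) h2
    omega

theorem sq_not_dvd_card (n p : ℕ) (hp : p.Prime) (hpn : p ≤ n) (h : n < 2 * p) :
    ¬ p ^ 2 ∣ Nat.card (alternatingGroup (Fin n)) := by
  intro hd
  have hfac : p ^ 2 ∣ n.factorial :=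
    two_mul_card n (hp.two_le.trans hpn) ▸ hd.mul_left 2
  have := Fact.mk hp
  rw [padicValNat_dvd_iff, or_iff_right (Nat.factorial_ne_zero n),
    padicValNat_factorial (b := 2) (Nat.log_lt_of_lt_pow (by omega) (by nlinarith [hp.two_le]))] at hfac
  have : ∑ i ∈ Finset.Ico 1 2, n / p ^ i = n / p := by simp
  rw [this] at hfac
  have := Nat.div_lt_iff_lt_mul hp.pos |>.2 h
  omega

variable {G : Type*} [Group G] [Finite G] {n : ℕ}

omit [Finite G] in
/-- The set of big primes satisfies the hypothesis of the chief factor lemma. -/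
theorem big_hyp (hcard : Nat.card G = Nat.card ↥(alternatingGroup (Fin n)))
    (hspec : Set.range (orderOf : G → ℕ) = Set.range (orderOf : ↥(alternatingGroup (Fin n)) → ℕ))
    {r s : ℕ} (hr : r.Prime) (hs : s.Prime) (hne : r ≠ s) (hr' : n < 2 * r) (hrn : r ≤ n)
    (hs' : n < 2 * s) (hsn : s ≤ n) (hn : 5 ≤ n) :
    (∀ z : G, orderOf z ≠ r * s) ∧
      ∀ j : ℕ, 1 ≤ j → r ^ j ∣ Nat.card G → r ^ j % s ≠ 1 := by
  refine ⟨fun z hz => no_order n r s hr hs hne (by omega) (hspec ▸ ⟨z, hz⟩), fun j hj hd h1 => ?_⟩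
  have hj1 : j = 1 := by
    by_contra hj1
    exact sq_not_dvd_card n r hr hrn hr' (hcard ▸ (pow_dvd_pow r (by omega : 2 ≤ j)).trans hd)
  subst hj1
  rw [pow_one] at h1
  rcases lt_or_gt_of_ne hne with h | h
  · rw [Nat.mod_eq_of_lt h] at h1
    exact hr.one_lt.ne' h1
  · rw [Nat.mod_eq_sub_mod h.le, Nat.mod_eq_of_lt (by omega)] at h1
    rcases hs.eq_two_or_odd with h2 | h2 <;> rcases hr.eq_two_or_odd with h3 | h3 <;> omega

/-- A chief factor containing all big primes. -/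
theorem factor_of_two (hcard : Nat.card G = Nat.card ↥(alternatingGroup (Fin n)))
    (hspec : Set.range (orderOf : G → ℕ) = Set.range (orderOf : ↥(alternatingGroup (Fin n)) → ℕ))
    (h2 : ∃ p q : ℕ, p.Prime ∧ q.Prime ∧ p ≠ q ∧ n < 2 * p ∧ p ≤ n ∧ n < 2 * q ∧ q ≤ n)
    (hn : 5 ≤ n) :
    ¬ Group.IsSolvable G ∧
    ∃ (N H : Subgroup G) (_ : N.Normal), H.Normal ∧ N < H ∧
      IsSimpleGroup (↥H ⧸ N.subgroupOf H) ∧ ¬ IsMulCommutative (↥H ⧸ N.subgroupOf H) ∧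
      ∀ p : ℕ, p.Prime → n < 2 * p → p ≤ n → p ∣ Nat.card (↥H ⧸ N.subgroupOf H) := by
  obtain ⟨p, q, hp, hq, hne, hp', hpn, hq', hqn⟩ := h2
  let S : Set ℕ := {r | r.Prime ∧ n < 2 * r ∧ r ≤ n}
  obtain ⟨N, H, hNn, hHn, hNH, hmin, hall⟩ := PrimeChief.exists_chief_factor (G := G) S
    (fun r hr => ⟨hr.1, hcard ▸ dvd_card n r hr.1 (by have := hr.2.1; omega) hr.2.2⟩)
    ⟨p, hp, hp', hpn⟩
    (fun r hr s hs h => big_hyp hcard hspec hr.1 hs.1 h hr.2.1 hr.2.2 hs.2.1 hs.2.2 hn)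
  have hmain := PrimeChief.simple_of_factor N H hHn hNH hmin hp hq hne (hall p ⟨hp, hp', hpn⟩).1
    (hall q ⟨hq, hq', hqn⟩).1 (hall p ⟨hp, hp', hpn⟩).2 (hall q ⟨hq, hq', hqn⟩).2
  obtain ⟨hs1, hs2⟩ := hmain.2 (hcard ▸ sq_not_dvd_card n p hp hpn hp')
  refine ⟨hmain.1, N, H, hNn, hHn, hNH, hs1, hs2, fun r hr h1 h2 => ?_⟩
  obtain ⟨hH, hN⟩ := hall r ⟨hr, h1, h2⟩
  rw [Subgroup.card_eq_card_quotient_mul_card_subgroup (N.subgroupOf H),
    Nat.card_congr (Subgroup.subgroupOfEquivOfLe hNH.le).toEquiv] at hH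
  exact (hr.dvd_mul.1 hH).resolve_right hN

theorem two_big (n : ℕ) (hn : 11 ≤ n) :
    ∃ p q : ℕ, p.Prime ∧ q.Prime ∧ p ≠ q ∧ n < 2 * p ∧ p ≤ n ∧ n < 2 * q ∧ q ≤ n := by
  rcases eq_or_lt_of_le hn with rfl | h
  · exact ⟨7, 11, by norm_num, by norm_num, by omega, by omega, by omega, by omega, le_rfl⟩
  · obtain ⟨p, q, hp, hq, hne, h1, h2, h3, h4⟩ := TwoBertrand.two_primes (n / 2) (by omega)
    exact ⟨p, q, hp, hq, hne, by omega, by omega, by omega, by omega⟩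

/-- Two primes with sum exceeding `n` and good powers force non-solvability. -/
theorem not_solvable_of_pair (hcard : Nat.card G = Nat.card ↥(alternatingGroup (Fin n)))
    (hspec : Set.range (orderOf : G → ℕ) = Set.range (orderOf : ↥(alternatingGroup (Fin n)) → ℕ))
    {r s : ℕ} (hr : r.Prime) (hs : s.Prime) (hne : r ≠ s) (hr3 : 3 ≤ r) (hs3 : 3 ≤ s)
    (hrn : r ≤ n) (hsn : s ≤ n) (hsum : n < r + s)
    (hmr : ∀ j : ℕ, 1 ≤ j → r ^ j ∣ Nat.card (alternatingGroup (Fin n)) → r ^ j % s ≠ 1)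
    (hms : ∀ j : ℕ, 1 ≤ j → s ^ j ∣ Nat.card (alternatingGroup (Fin n)) → s ^ j % r ≠ 1) :
    ¬ Group.IsSolvable G := by
  have hr0 : r ∣ Nat.card G := hcard ▸ dvd_card n r hr hr3 hrn
  have hs0 : s ∣ Nat.card G := hcard ▸ dvd_card n s hs hs3 hsn
  have hno : ∀ z : G, orderOf z ≠ r * s := fun z hz =>
    no_order n r s hr hs hne hsum (hspec ▸ ⟨z, hz⟩)
  obtain ⟨N, H, hNn, hHn, hNH, hmin, hall⟩ := PrimeChief.exists_chief_factor (G := G) {r, s}
    (by rintro x (rfl | rfl) <;> [exact ⟨hr, hr0⟩; exact ⟨hs, hs0⟩]) ⟨r, Or.inl rfl⟩ (by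
      rintro x (rfl | rfl) y (rfl | rfl) hxy
      · exact absurd rfl hxy
      · exact ⟨hno, fun j hj hd => hmr j hj (hcard ▸ hd)⟩
      · exact ⟨fun z hz => hno z (hz.trans (mul_comm _ _)), fun j hj hd => hms j hj (hcard ▸ hd)⟩
      · exact absurd rfl hxy)
  exact (PrimeChief.simple_of_factor N H hHn hNH hmin hr hs hne (hall r (Or.inl rfl)).1
    (hall s (Or.inr rfl)).1 (hall r (Or.inl rfl)).2 (hall s (Or.inr rfl)).2).1

end Cfsg.Agent.AltBigPrimes
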