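import Cfsg.Agent.Lib.Spectrum.Semidirect

/-!
Functions on a group with trivial product on the cosets of subgroups of a given prime order,
with the action by right translation, as modules for isospectral constructions.
-/

set_option autoImplicit false

namespace Cfsg.Agent.Spectrum

variable {M : Type*} [CommGroup M] {G : Type*} [Group G]

/-- Functions with trivial product on every coset of every subgroup of order `p`. -/
def cusp (M : Type*) [CommGroup M] (G : Type*) [Group G] (p : ℕ) : Subgroup (G → M) where
  carrier := {f | ∀ x u : G, u ^ p = 1 → u ≠ 1 → ∏ i ∈ Finset.range p, f (x * u ^ i) = 1}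
  one_mem' := by intro x u _ _; simp
  mul_mem' := by
    intro f g hf hg x u h1 h2
    simp only [Pi.mul_apply, Finset.prod_mul_distrib, hf x u h1 h2, hg x u h1 h2, one_mul]
  inv_mem' := by
    intro f hf x u h1 h2
    simp only [Pi.inv_apply, Finset.prod_inv_distrib, hf x u h1 h2, inv_one]

theorem shift_mem {p : ℕ} {f : G → M} (hf : f ∈ cusp M G p) (g : G) :
    (fun x => f (x * g)) ∈ cusp M G p := by
  intro x u h1 h2
  have key := hf (x * g) (g⁻¹ * u * g) ?_ ?_
  · rw [← key]
    refine Finset.prod_congr rfl fun i _ => ?_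
    have : (g⁻¹ * u * g) ^ i = g⁻¹ * u ^ i * g := by
      simpa using (conj_pow (i := i) (a := g⁻¹) (b := u))
    show f (x * u ^ i * g) = _
    rw [this]; congr 1; group
  · have : (g⁻¹ * u * g) ^ p = g⁻¹ * u ^ p * g := by
      simpa using (conj_pow (i := p) (a := g⁻¹) (b := u))
    rw [this, h1]; group
  · intro h
    apply h2
    have : g * (g⁻¹ * u * g) * g⁻¹ = 1 := by rw [h]; group
    rw [← this]; group

/-- Right translation. -/
def shift (p : ℕ) : G →* MulAut (cusp M G p) where
  toFun g :=
    { toFun := fun f => ⟨fun x => (f : G → M) (x * g), shift_mem f.2 g⟩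
      invFun := fun f => ⟨fun x => (f : G → M) (x * g⁻¹), shift_mem f.2 g⁻¹⟩
      left_inv := fun f => by ext x; simp
      right_inv := fun f => by ext x; simp
      map_mul' := fun f₁ f₂ => rfl }
  map_one' := by ext f x; simp
  map_mul' g h := by ext f x; simp [mul_assoc]

theorem norm_shift (p : ℕ) (g : G) (f : cusp M G p) (x : G) :
    ((twNorm (shift p) g f : cusp M G p) : G → M) x =
      ∏ i ∈ Finset.range (orderOf g), (f : G → M) (x * g ^ i) := by
  rw [twNorm, Subgroup.val_finset_prod, Finset.prod_apply]
  rfl

theorem prod_range_mul {M : Type*} [CommMonoid M] (a : ℕ → M) (d : ℕ) : ∀ r : ℕ,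
    ∏ i ∈ Finset.range (d * r), a i =
      ∏ j ∈ Finset.range d, ∏ l ∈ Finset.range r, a (j + d * l) := by
  intro r
  induction r with
  | zero => simp
  | succ r ih =>
    rw [Nat.mul_succ, Finset.prod_range_add, ih, ← Finset.prod_mul_distrib]
    refine Finset.prod_congr rfl fun j _ => ?_
    rw [Finset.prod_range_succ, add_comm (d * r) j]

end Cfsg.Agent.Spectrum
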